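import Groth.Agent.Lib.ExtHH.Basic
import Groth.Agent.Lib.TensorMod.LocIso
import Groth.Agent.Lib.TensorMod.FPConv
import Groth.Agent.Lib.DerivedOX.FlatTensor
import Groth.Agent.Lib.DerivedOX.PullTensor
import Groth.Agent.Lib.QCoh.Closure
import Groth.Prelude.Def_DCoh4
import Mathlib.CategoryTheory.Preadditive.Injective.Preserves

/-!
# `Hom(A, -)` for a finite locally free `A`

It is exact, linear and preserves injectives, so `Ext^n(A, Y) ≅ H^n(X, Hom(A, Y))`.
-/

universe u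

open CategoryTheory CategoryTheory.Limits AlgebraicGeometry Opposite TopologicalSpace

noncomputable section

namespace Groth.Agent.Lib.ExtHH.SheafHom

open Groth.Agent.Lib.TensorMod Groth.Agent.Lib.TensorMod.Basic Groth.Agent.Lib.TensorMod.Free
open Groth.Agent.Lib.TensorMod.Dual Groth.Agent.Lib.Modules
open Groth.Agent.Lib.DerivedOX.TensorStalk (st)

variable {X : Scheme.{u}}

theorem subsingleton_stalk_freeOn {W : X.Opens} {x : X} (hx : x ∉ W) :
    Subsingleton ((freeOn W).presheaf.stalk x) := by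
  refine (DerivedOX.TensorSheaf.shStalkEquiv x (Colimit.freeGen W)).symm.toEquiv.subsingleton_congr.mpr ?_
  refine subsingleton_of_forall_eq 0 fun z => ?_
  obtain ⟨V, hV, s, rfl⟩ := TopCat.Presheaf.exists_germ_eq (Colimit.freeGen W).presheaf z
  have : IsEmpty (V ⟶ W) := ⟨fun f => hx (f.le hV)⟩
  have : Subsingleton (ToType ((Colimit.freeGen W).presheaf.obj (op V))) :=
    inferInstanceAs (Subsingleton ((V ⟶ W) →₀ X.sheaf.obj.obj (op V)))
  exact (congrArg _ (Subsingleton.elim s 0)).trans (map_zero _)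

theorem bijective_stalk_of_isIso_restrict {M N : X.Modules} {Φ : M ⟶ N} {U : X.Opens}
    (h : IsIso ((LocIso.rU U).map Φ)) {x : X} (hx : x ∈ U) :
    Function.Bijective (StalkModule.stalkMapₗ Φ x) := by
  have hb : ∀ V : X.Opens, V ≤ U → Function.Bijective (Φ.app V) := fun V hV =>
    (ConcreteCategory.isIso_iff_bijective _).1 (LocIso.isIso_app_of_isIso_restrict h hV)
  constructor
  · intro a b hab
    obtain ⟨V₁, h₁, s, rfl⟩ := TopCat.Presheaf.exists_germ_eq M.presheaf a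
    obtain ⟨V₂, h₂, t, rfl⟩ := TopCat.Presheaf.exists_germ_eq M.presheaf b
    rw [StalkModule.stalkMapₗ_germ, StalkModule.stalkMapₗ_germ] at hab
    obtain ⟨W, hW, i, j, e⟩ := TopCat.Presheaf.germ_eq N.presheaf x h₁ h₂ _ _ hab
    have e' : rs N (inf_le_left.trans i.le : W ⊓ U ≤ V₁) (Φ.app V₁ s) =
        rs N (inf_le_left.trans j.le : W ⊓ U ≤ V₂) (Φ.app V₂ t) := by
      rw [← rs_rs N i.le inf_le_left, ← rs_rs N j.le inf_le_left]
      exact congrArg _ e
    rw [HomGlue.rs_app, HomGlue.rs_app] at e'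
    have e'' := (hb (W ⊓ U) inf_le_right).1 e'
    rw [← TopCat.Presheaf.germ_res_apply M.presheaf (homOfLE (inf_le_left.trans i.le : W ⊓ U ≤ V₁)) x
        ⟨hW, hx⟩ s,
      ← TopCat.Presheaf.germ_res_apply M.presheaf (homOfLE (inf_le_left.trans j.le : W ⊓ U ≤ V₂)) x
        ⟨hW, hx⟩ t]
    exact congrArg _ e''
  · intro b
    obtain ⟨V, hV, s, rfl⟩ := TopCat.Presheaf.exists_germ_eq N.presheaf b
    obtain ⟨t, ht⟩ := (hb (V ⊓ U) inf_le_right).2 (rs N inf_le_left s)
    refine ⟨M.presheaf.germ (V ⊓ U) x ⟨hV, hx⟩ t, ?_⟩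
    refine (StalkModule.stalkMapₗ_germ Φ _ t).trans ((congrArg _ ht).trans ?_)
    exact TopCat.Presheaf.germ_res_apply N.presheaf (homOfLE inf_le_left) x ⟨hV, hx⟩ s

theorem isIso_tmap_freeOn {M N : X.Modules} {Φ : M ⟶ N} {U : X.Opens}
    (h : IsIso ((LocIso.rU U).map Φ)) {W : X.Opens} (hW : W ≤ U) :
    IsIso (tmap Φ (𝟙 (freeOn W))) := by
  rw [StalkModule.isIso_iff_stalkMapₗ_bijective]
  intro x
  have key : ∀ z, DerivedOX.TensorSheaf.tensorStalk x N (freeOn W)
      (StalkModule.stalkMapₗ (tmap Φ (𝟙 (freeOn W))) x z) =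
      TensorProduct.map (StalkModule.stalkMapₗ Φ x) LinearMap.id
        (DerivedOX.TensorSheaf.tensorStalk x M (freeOn W) z) := fun z => by
    have := DerivedOX.TensorSheaf.tensorStalk_natural x Φ (𝟙 (freeOn W)) z
    rw [CategoryTheory.Functor.map_id, Category.comp_id, StalkModule.stalkMapₗ_id,
      DerivedOX.PullTensor.tensorBi_map_app] at this
    exact this
  have hb : Function.Bijective (TensorProduct.map (StalkModule.stalkMapₗ Φ x)
      (LinearMap.id : (freeOn W).presheaf.stalk x →ₗ[X.presheaf.stalk x] _)) := by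
    by_cases hx : x ∈ W
    · exact (TensorProduct.congr (LinearEquiv.ofBijective _
        (bijective_stalk_of_isIso_restrict h (hW hx))) (LinearEquiv.refl _ _)).bijective
    · have := subsingleton_stalk_freeOn hx
      have h1 : ∀ (M' : Type u) [AddCommGroup M'] [Module (X.presheaf.stalk x) M'],
          Subsingleton (TensorProduct (X.presheaf.stalk x) M' ((freeOn W).presheaf.stalk x)) := by
        intro M' _ _
        refine subsingleton_of_forall_eq 0 fun z => ?_
        induction z using TensorProduct.induction_on with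
        | zero => rfl
        | tmul a b => rw [Subsingleton.elim b 0, TensorProduct.tmul_zero]
        | add a b ha hb => rw [ha, hb, add_zero]
      have := h1 (M.presheaf.stalk x)
      have := h1 (N.presheaf.stalk x)
      exact ⟨Function.injective_of_subsingleton _, fun y => ⟨0, Subsingleton.elim _ _⟩⟩
  have hcomp : Function.Bijective (fun z => DerivedOX.TensorSheaf.tensorStalk x N (freeOn W)
      (StalkModule.stalkMapₗ (tmap Φ (𝟙 (freeOn W))) x z)) := by
    rw [funext key]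
    exact hb.comp (LinearEquiv.bijective _)
  exact (Function.Bijective.of_comp_iff' (LinearEquiv.bijective _) _).1 hcomp

theorem rs_pairM {M N H : X.Modules} (g : CohB1.tensorMod M N ⟶ H) {U V : X.Opens} (h : V ≤ U)
    (m : Γ(M, U)) (n : Γ(N, U)) : rs H h (pairM g m n) = pairM g (rs M h m) (rs N h n) :=
  Whisker.res_pair (M := (fgt X).obj M) (P := (fgt X).obj N) (H := (fgt X).obj H) _ (homOfLE h).op m n

/-- The generator of `freeOn U ⊗ freeOn W`. -/
abbrev gen₂ (U W : X.Opens) : Γ(CohB1.tensorMod (freeOn U) (freeOn W), U ⊓ W) :=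
  pairM (𝟙 _) (rs (freeOn U) (inf_le_left : U ⊓ W ≤ U) (genSec U))
    (rs (freeOn W) (inf_le_right : U ⊓ W ≤ W) (genSec W))

theorem app_gen₂ {U W : X.Opens} {M M' H : X.Modules} (e : freeOn U ⟶ M) (h : freeOn W ⟶ M')
    (φ : CohB1.tensorMod M M' ⟶ H) :
    (tmap e h ≫ φ).app (U ⊓ W) (gen₂ U W) =
      pairM φ (rs M inf_le_left (e.app U (genSec U))) (rs M' inf_le_right (h.app W (genSec W))) := by
  rw [gen₂, ← pairM_comp, Category.id_comp, pairM_tmap_comp, ← HomGlue.rs_app, ← HomGlue.rs_app]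

/-- Comparison of two maps out of `freeOn U ⊗ freeOn W`. -/
theorem comp_eq {M N N' : X.Modules} (g : N ⟶ N') {U V W T : X.Opens} (hW : W ≤ V)
    (e : freeOn U ⟶ M) (h : freeOn W ⟶ freeOn V) (hh : h.app W (genSec W) = rs (freeOn V) hW (genSec V))
    (φ' : CohB1.tensorMod M (freeOn V) ⟶ N') (ψ : CohB1.tensorMod (freeOn U) (freeOn W) ⟶ N)
    (hT : T ≤ U ⊓ V) (b : Γ(N, T)) (hT' : U ⊓ W ≤ T)
    (hb : g.app T b = rs N' hT (pairM φ' (rs M inf_le_left (e.app U (genSec U)))
      (rs (freeOn V) inf_le_right (genSec V))))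
    (hψ : ψ.app (U ⊓ W) (gen₂ U W) = rs N hT' b) :
    ψ ≫ g = tmap e h ≫ φ' := by
  refine ((isFreeOn_freeOn U).tensor (isFreeOn_freeOn W) N').1 ?_
  refine Eq.trans ?_ (app_gen₂ e h φ').symm
  refine (congrArg (g.app (U ⊓ W)) hψ).trans ?_
  rw [← HomGlue.rs_app, hb, rs_rs, rs_pairM, rs_rs, rs_rs, hh, rs_rs]

section Gens

variable {M N : X.Modules} {n : ℕ} {U W : X.Opens} (Φ : (∐ fun _ : Fin n => freeOn U) ⟶ M)

theorem tmap_ι_comp (k : Fin n) :
    tmap (Sigma.ι (fun _ : Fin n => freeOn U) k ≫ Φ) (𝟙 (freeOn W)) =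
      tmap (Sigma.ι (fun _ : Fin n => freeOn U) k) (𝟙 _) ≫ tmap Φ (𝟙 _) := by
  rw [← tmap_comp, Category.id_comp]

theorem exists_desc (hΦ : IsIso ((LocIso.rU U).map Φ)) (hW : W ≤ U)
    (ψ : Fin n → (CohB1.tensorMod (freeOn U) (freeOn W) ⟶ N)) :
    ∃ ψA : CohB1.tensorMod M (freeOn W) ⟶ N, ∀ k,
      tmap (Sigma.ι (fun _ : Fin n => freeOn U) k ≫ Φ) (𝟙 _) ≫ ψA = ψ k := by
  have := isIso_tmap_freeOn hΦ hW
  have := LocFree.preservesFinCoproducts ((DCoh.tensorBi (X := X)).flip.obj (freeOn W)) (Fin n)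
  let hc := isColimitOfHasCoproductOfPreservesColimit ((DCoh.tensorBi (X := X)).flip.obj (freeOn W))
    (fun _ : Fin n => freeOn U)
  refine ⟨inv (tmap Φ (𝟙 (freeOn W))) ≫ hc.desc (Cofan.mk N ψ), fun k => ?_⟩
  refine (congrArg (· ≫ inv (tmap Φ (𝟙 (freeOn W))) ≫ hc.desc (Cofan.mk N ψ)) (tmap_ι_comp Φ k)).trans ?_
  refine (Category.assoc _ _ _).trans ((congrArg (_ ≫ ·) (IsIso.hom_inv_id_assoc _ _)).trans ?_)
  rw [← DerivedOX.PullTensor.tensorBi_map_app]
  exact hc.fac (Cofan.mk N ψ) ⟨k⟩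

theorem hom_ext_gens (hΦ : IsIso ((LocIso.rU U).map Φ)) (hW : W ≤ U)
    {a b : CohB1.tensorMod M (freeOn W) ⟶ N}
    (h : ∀ k, tmap (Sigma.ι (fun _ : Fin n => freeOn U) k ≫ Φ) (𝟙 _) ≫ a =
      tmap (Sigma.ι (fun _ : Fin n => freeOn U) k ≫ Φ) (𝟙 _) ≫ b) : a = b := by
  have := isIso_tmap_freeOn hΦ hW
  have := LocFree.preservesFinCoproducts ((DCoh.tensorBi (X := X)).flip.obj (freeOn W)) (Fin n)
  let hc := isColimitOfHasCoproductOfPreservesColimit ((DCoh.tensorBi (X := X)).flip.obj (freeOn W))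
    (fun _ : Fin n => freeOn U)
  rw [← cancel_epi (tmap Φ (𝟙 (freeOn W)))]
  refine Cofan.IsColimit.hom_ext hc _ _ fun k => ?_
  have := h k
  rw [tmap_ι_comp, Category.assoc, Category.assoc, ← DerivedOX.PullTensor.tensorBi_map_app] at this
  exact this

end Gens

theorem exists_lift_tensor {A N N' : X.Modules} (hA : FlatMod.IsFinLocFree A) (g : N ⟶ N') [Epi g]
    {V : X.Opens} (φ' : CohB1.tensorMod A (freeOn V) ⟶ N') {x : X} (hx : x ∈ V) :
    ∃ (W : X.Opens) (hW : W ≤ V), x ∈ W ∧ ∃ (h : freeOn W ⟶ freeOn V)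
      (ψ : CohB1.tensorMod A (freeOn W) ⟶ N),
      h.app W (genSec W) = rs (freeOn V) hW (genSec V) ∧ ψ ≫ g = tmap (𝟙 A) h ≫ φ' := by
  obtain ⟨U, n, hxU, ⟨i⟩⟩ := hA x
  obtain ⟨Φ, hΦ⟩ := LocIso.exists_map_isIso_restrict i
  choose T hT hxk b hb using fun k : Fin n =>
    QCoh.Closure.exists_local_lift_of_epi g (x := x)
      (pairM φ' (rs A (inf_le_left : U ⊓ V ≤ U) ((Sigma.ι (fun _ : Fin n => freeOn U) k ≫ Φ).app U (genSec U)))
        (rs (freeOn V) (inf_le_right : U ⊓ V ≤ V) (genSec V))) ⟨hxU, hx⟩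
  let W : X.Opens := Finset.univ.inf T ⊓ (U ⊓ V)
  have hxW : x ∈ W := ⟨Finset.inf_induction (p := fun V : X.Opens => x ∈ V) trivial
    (fun _ h₁ _ h₂ => ⟨h₁, h₂⟩) fun k _ => hxk k, hxU, hx⟩
  have hWU : W ≤ U := inf_le_right.trans inf_le_left
  have hWV : W ≤ V := inf_le_right.trans inf_le_right
  have hT' : ∀ k, U ⊓ W ≤ T k := fun k =>
    inf_le_right.trans (inf_le_left.trans (Finset.inf_le (Finset.mem_univ k)))
  obtain ⟨h, hh⟩ := (isFreeOn_freeOn W (freeOn V)).2 (rs (freeOn V) hWV (genSec V))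
  choose ψ hψ using fun k => ((isFreeOn_freeOn U).tensor (isFreeOn_freeOn W) N).2 (rs N (hT' k) (b k))
  obtain ⟨ψA, hψA⟩ := exists_desc Φ hΦ hWU ψ
  refine ⟨W, hWV, hxW, h, ψA, hh, hom_ext_gens Φ hΦ hWU fun k => ?_⟩
  rw [reassoc_of% (hψA k), ← Category.assoc, ← tmap_comp, Category.comp_id, Category.id_comp]
  exact comp_eq g hWV _ h hh φ' (ψ k) (hT k) (b k) (hT' k) (hb k) (hψ k)

variable {A : X.Modules} [DCoh.HasSheafHom A]

variable (A) in
/-- The adjunction, stated with `CohB1.tensorMod`. -/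
def adjEquiv (M N : X.Modules) : (CohB1.tensorMod A M ⟶ N) ≃ (M ⟶ (DCoh.sheafHom A).obj N) :=
  (DCoh.sheafHomAdj A).homEquiv M N

theorem adjEquiv_right {M N N' : X.Modules} (f : CohB1.tensorMod A M ⟶ N) (g : N ⟶ N') :
    adjEquiv A M N' (f ≫ g) = adjEquiv A M N f ≫ (DCoh.sheafHom A).map g :=
  (DCoh.sheafHomAdj A).homEquiv_naturality_right f g

theorem adjEquiv_left {M M' N : X.Modules} (h : M' ⟶ M) (f : CohB1.tensorMod A M ⟶ N) :
    adjEquiv A M' N (tmap (𝟙 A) h ≫ f) = h ≫ adjEquiv A M N f :=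
  (congrArg (fun t => (DCoh.sheafHomAdj A).homEquiv M' N (t ≫ f))
    (DerivedOX.PullTensor.tensorBi_obj_map A h).symm).trans
    ((DCoh.sheafHomAdj A).homEquiv_naturality_left h f)

theorem exists_local_lift (hA : FlatMod.IsFinLocFree A) {N N' : X.Modules} (g : N ⟶ N') [Epi g]
    {V : X.Opens} (t : Γ((DCoh.sheafHom A).obj N', V)) {x : X} (hx : x ∈ V) :
    ∃ (W : X.Opens) (hW : W ≤ V), x ∈ W ∧ ∃ a : Γ((DCoh.sheafHom A).obj N, W),
      ((DCoh.sheafHom A).map g).app W a = rs _ hW t := by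
  obtain ⟨φ₀, hφ₀⟩ := (isFreeOn_freeOn V _).2 t
  obtain ⟨W, hW, hxW, h, ψ, hh, key⟩ := exists_lift_tensor hA g ((adjEquiv A _ _).symm φ₀) hx
  refine ⟨W, hW, hxW, (adjEquiv A _ _ ψ).app W (genSec W), ?_⟩
  have e : adjEquiv A _ _ ψ ≫ (DCoh.sheafHom A).map g = h ≫ φ₀ := by
    rw [← adjEquiv_right, key, adjEquiv_left, Equiv.apply_symm_apply]
  refine (congrArg (fun f : freeOn W ⟶ _ => f.app W (genSec W)) e).trans ?_
  refine (congrArg (φ₀.app W) hh).trans ?_
  exact (HomGlue.rs_app φ₀ hW (genSec V)).symm.trans (congrArg _ hφ₀)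

/-- `Hom(A, -)` preserves epimorphisms. -/
theorem epi_map (hA : FlatMod.IsFinLocFree A) {N N' : X.Modules} (g : N ⟶ N') [Epi g] :
    Epi ((DCoh.sheafHom A).map g) := by
  constructor
  intro P a b hab
  refine Scheme.Modules.hom_ext _ _ fun V => ?_
  ext t
  choose W hW hx s hs using fun x : V => exists_local_lift hA g t x.2
  refine HomGlue.sections_ext_cover W P (V := V)
    (fun x hx' => Opens.mem_iSup.2 ⟨⟨x, hx'⟩, hx ⟨x, hx'⟩⟩) fun x => ?_
  have e : a.app (W x) (rs _ (hW x) t) = b.app (W x) (rs _ (hW x) t) := by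
    rw [← hs x]
    exact congrArg (fun φ : (DCoh.sheafHom A).obj N ⟶ P => φ.app (W x) (s x)) hab
  rw [← HomGlue.rs_app, ← HomGlue.rs_app] at e
  rw [← rs_rs P (hW x) (inf_le_right : V ⊓ W x ≤ W x) (a.app V t),
    ← rs_rs P (hW x) (inf_le_right : V ⊓ W x ≤ W x) (b.app V t), e]

theorem additive_sheafHom : (DCoh.sheafHom A).Additive :=
  (DCoh.sheafHomAdj A).right_adjoint_additive

theorem preservesFiniteLimits_sheafHom : PreservesFiniteLimits (DCoh.sheafHom A) :=
  haveI : PreservesLimitsOfSize.{0, 0} (DCoh.sheafHom A) :=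
    (DCoh.sheafHomAdj A).rightAdjoint_preservesLimits
  PreservesLimitsOfSize.preservesFiniteLimits _

theorem preservesFiniteColimits_sheafHom (hA : FlatMod.IsFinLocFree A) :
    PreservesFiniteColimits (DCoh.sheafHom A) := by
  have := additive_sheafHom (A := A)
  have := preservesFiniteLimits_sheafHom (A := A)
  have : (DCoh.sheafHom A).PreservesEpimorphisms := ⟨fun g _ => epi_map hA g⟩
  have := Functor.preservesHomology_of_preservesEpis_and_kernels (DCoh.sheafHom A)
  exact Functor.preservesFiniteColimits_of_preservesHomology _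

/-- Multiplication by a scalar on a tensor product. -/
theorem tensor_map_smul (k : Type u) [CommRing k] [X.Over (Spec (CommRingCat.of k))]
    (M N : X.Modules) (r : k) : tmap (𝟙 M) (r • 𝟙 N) = r • 𝟙 (CohB1.tensorMod M N) := by
  refine hom_ext_pairM fun U m n => ?_
  rw [pairM_tmap, show r • 𝟙 (CohB1.tensorMod M N) = 𝟙 _ ≫ (r • 𝟙 _) from (Category.id_comp _).symm,
    pairM_comp, KLin.smul_app_apply, KLin.smul_app_apply]
  exact Whisker.pair_smul_right (M := (fgt X).obj M) (P := (fgt X).obj N) _ _ _ _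

theorem linear_sheafHom (k : Type u) [CommRing k] [X.Over (Spec (CommRingCat.of k))] :
    haveI := additive_sheafHom (A := A)
    (DCoh.sheafHom A).Linear k := by
  have := additive_sheafHom (A := A)
  refine (Functor.linear_iff k _).mpr fun N r => ?_
  apply ((DCoh.sheafHomAdj A).homEquiv _ _).symm.injective
  rw [Adjunction.homEquiv_counit, Adjunction.homEquiv_counit]
  refine ((DCoh.sheafHomAdj A).counit.naturality (r • 𝟙 N)).trans ?_
  refine Eq.trans ?_ (congrArg (· ≫ (DCoh.sheafHomAdj A).counit.app N)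
    ((DerivedOX.PullTensor.tensorBi_obj_map A _).trans
      (tensor_map_smul k A ((DCoh.sheafHom A).obj N) r)).symm)
  exact ((Linear.comp_smul ..).trans (congrArg (r • ·) (Category.comp_id _))).trans
    ((Linear.smul_comp ..).trans (congrArg (r • ·) (Category.id_comp _))).symm

theorem injective_sheafHom (hA : FlatMod.IsFlat A) (I : X.Modules) [Injective I] :
    Injective ((DCoh.sheafHom A).obj I) :=
  haveI : ((DCoh.tensorBi (X := X)).obj A).PreservesMonomorphisms :=
    ⟨fun g _ => DerivedOX.FlatTensor.mono_tensor_map_of_isFlat hA g⟩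
  haveI := Functor.preservesInjectiveObjects_of_adjunction_of_preservesMonomorphisms (DCoh.sheafHomAdj A)
  (DCoh.sheafHom A).injective_obj I

theorem injective_sheafHom' (hA : FlatMod.IsFinLocFree A) (I : X.Modules) (hI : Injective I) :
    Injective ((DCoh.sheafHom A).obj I) :=
  injective_sheafHom (FPConv.isFlat_of_isFinLocFree hA) I

variable (A) in
/-- The identity of `A` as a section of `Hom(A, A)`. -/
def idSec : Coh.structureModule X ⟶ (DCoh.sheafHom A).obj A :=
  adjEquiv A _ _ (rightUnit A).hom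

theorem bijective_idSec (Y : X.Modules) :
    Function.Bijective fun f : A ⟶ Y => idSec A ≫ (DCoh.sheafHom A).map f := by
  have e : (fun f : A ⟶ Y => idSec A ≫ (DCoh.sheafHom A).map f) =
      adjEquiv A _ _ ∘ fun f : A ⟶ Y => (rightUnit A).hom ≫ f :=
    funext fun f => (adjEquiv_right (rightUnit A).hom f).symm
  rw [e]
  exact (Equiv.bijective _).comp ⟨fun f g h => (cancel_epi (rightUnit A).hom).1 h,
    fun g => ⟨(rightUnit A).inv ≫ g, by simp⟩⟩

/-- `Ext^n(A, Y) ≅ H^n(X, Hom(A, Y))` for finite locally free `A`. -/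
def extLinearEquiv (k : Type u) [CommRing k] [X.Over (Spec (CommRingCat.of k))] [HasExt.{u} X.Modules]
    (hA : FlatMod.IsFinLocFree A) (Y : X.Modules) (n : ℕ) :
    Abelian.Ext.{u} A Y n ≃ₗ[k] Coh.HH X ((DCoh.sheafHom A).obj Y) n :=
  haveI := additive_sheafHom (A := A)
  haveI := preservesFiniteLimits_sheafHom (A := A)
  haveI := preservesFiniteColimits_sheafHom hA
  haveI := linear_sheafHom (A := A) k
  Basic.extHHLinearEquiv (Z := X) (A := A) (DCoh.sheafHom A) (idSec A) k (bijective_idSec (A := A))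
    (injective_sheafHom' hA) Y n

end Groth.Agent.Lib.ExtHH.SheafHom
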