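import Groth.Agent.Lib.Curves.LES
import Groth.Agent.Lib.CohDelta.Flasque
import Groth.Agent.Lib.DerivedOX.Grothendieck
import Groth.Agent.Lib.TensorMod.Gen
import Groth.Prelude.Def_KLin
import Mathlib.Algebra.Homology.DerivedCategory.Ext.Linear
import Mathlib.Algebra.Homology.DerivedCategory.Ext.Map
import Mathlib.Algebra.Homology.DerivedCategory.Ext.MapBijective

/-!
# `Ext_{O_X}(A, Y)` versus cohomology

* `comp_bijective`: for an exact functor `F` and `η : X' ⟶ F X`, the map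
  `Ext(X, Y) → Ext(X', F Y)` is bijective as soon as it is in degree zero and `F` sends injectives
  to acyclic objects.
* `extHHEquiv G j`: for an exact additive endofunctor `G` preserving injectives and `j : O ⟶ G A`
  with `Hom(A, -) ≅ Γ(G -)`, a natural `Ext^n(A, Y) ≃+ H^n(X, G Y)`; `extHHLinearEquiv`.
* `extUnitEquiv`: `Ext^n(O_X, Y) ≃ₗ H^n(X, Y)`.
-/

universe w w' u v v' u₁ u₂

open CategoryTheory CategoryTheory.Limits AlgebraicGeometry Opposite TopologicalSpace

noncomputable section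

namespace Groth.Agent.Lib.ExtHH.Basic

open CategoryTheory.Abelian

section General

variable {C : Type u₁} [Category.{v} C] [Abelian C] {D : Type u₂} [Category.{v'} D] [Abelian D]
  (F : C ⥤ D) [F.Additive] [PreservesFiniteLimits F] [PreservesFiniteColimits F]
  [HasExt.{w} C] [HasExt.{w'} D] {X : C} {X' : D} (η : X' ⟶ F.obj X)

/-- Apply `F` and precompose with `η`. -/
def comp (Y : C) (n : ℕ) : Ext.{w} X Y n →+ Ext.{w'} X' (F.obj Y) n :=
  ((Ext.mk₀ η).precomp (F.obj Y) (zero_add n)).comp (F.mapExtAddHom X Y n)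

lemma comp_apply (Y : C) (n : ℕ) (x : Ext.{w} X Y n) :
    comp F η Y n x = (Ext.mk₀ η).comp (x.mapExactFunctor F) (zero_add n) := rfl

lemma comp_mk₀ {Y : C} (f : X ⟶ Y) : comp F η Y 0 (Ext.mk₀ f) = Ext.mk₀ (η ≫ F.map f) := by
  simp [comp_apply, Ext.mapExactFunctor_mk₀]

lemma comp_comp {Y Z : C} {n m l : ℕ} (x : Ext.{w} X Y n) (g : Ext.{w} Y Z m) (h : n + m = l) :
    comp F η Z l (x.comp g h) = (comp F η Y n x).comp (g.mapExactFunctor F) h := by
  rw [comp_apply, comp_apply, Ext.mapExactFunctor_comp, Ext.comp_assoc _ _ _ (zero_add n) h (by omega)]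

lemma comp_comp_mk₀ {Y Z : C} {n : ℕ} (x : Ext.{w} X Y n) (g : Y ⟶ Z) :
    comp F η Z n (x.comp (Ext.mk₀ g) (add_zero n)) =
      (comp F η Y n x).comp (Ext.mk₀ (F.map g)) (add_zero n) := by
  rw [comp_comp, Ext.mapExactFunctor_mk₀]

attribute [local instance] Ext.subsingleton_of_injective in
/-- The comparison is bijective if it is so in degree zero and injectives go to acyclic objects. -/
theorem comp_bijective [EnoughInjectives C]
    (h₀ : ∀ Y : C, Function.Bijective fun f : X ⟶ Y => η ≫ F.map f)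
    (hI : ∀ (I : C), Injective I → ∀ n : ℕ, Subsingleton (Ext.{w'} X' (F.obj I) (n + 1)))
    (Y : C) (n : ℕ) : Function.Bijective (comp.{w, w'} F η Y n) := by
  induction n generalizing Y with
  | zero =>
    refine ⟨fun a b h => ?_, fun y => ?_⟩
    · obtain ⟨f, rfl⟩ := (Ext.mk₀_bijective X Y).2 a
      obtain ⟨g, rfl⟩ := (Ext.mk₀_bijective X Y).2 b
      rw [comp_mk₀, comp_mk₀] at h
      rw [(h₀ Y).1 ((Ext.mk₀_bijective _ _).1 h)]
    · obtain ⟨g, rfl⟩ := (Ext.mk₀_bijective _ _).2 y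
      obtain ⟨f, rfl⟩ := (h₀ Y).2 g
      exact ⟨Ext.mk₀ f, comp_mk₀ F η f⟩
  | succ n hn =>
    let I : InjectivePresentation Y := Classical.arbitrary _
    let S := ShortComplex.mk _ _ (cokernel.condition I.f)
    have hS : S.ShortExact := { exact := ShortComplex.exact_cokernel I.f }
    have := hI I.J I.injective n
    have : Subsingleton (Ext.{w'} X' (S.map F).X₂ (n + 1)) := this
    refine AddMonoidHom.bijective_of_surjective_of_bijective_of_right_exact _ _ _ _
      (comp F η S.X₂ n) (comp F η S.X₃ n) (comp F η S.X₁ (n + 1)) ?_ ?_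
      ((ShortComplex.ab_exact_iff_function_exact _).mp
        (Ext.covariant_sequence_exact₃' X hS n (n + 1) rfl))
      ((ShortComplex.ab_exact_iff_function_exact _).mp
        (Ext.covariant_sequence_exact₃' X' (hS.map_of_exact F) n (n + 1) rfl))
      (hn _).surjective (hn _)
      (fun x₁ ↦ Ext.covariant_sequence_exact₁ _ hS x₁ (Subsingleton.elim _ _) rfl)
      (fun y₁ ↦ Ext.covariant_sequence_exact₁ _ (hS.map_of_exact F) y₁ (Subsingleton.elim _ _) rfl)
    · ext x
      exact (comp_comp_mk₀ F η x S.g).symm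
    · ext x
      refine Eq.trans ?_ (comp_comp F η x hS.extClass rfl).symm
      rw [Ext.mapExactFunctor_extClass]
      rfl

end General

section Scheme

variable {Z : Scheme.{u}}

open Groth.Agent.Lib.Curves.LES (F)
open Groth.Agent.Lib.TensorMod.Gen (one app_eq_smul)

/-- The source of `Sheaf.H`. -/
abbrev cst (Z : Scheme.{u}) : Sheaf (Opens.grothendieckTopology Z) AddCommGrpCat.{u} :=
  (constantSheaf (Opens.grothendieckTopology Z) AddCommGrpCat.{u}).obj
    (AddCommGrpCat.of (ULift ℤ))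

/-- `Hom(ℤ, G) ≅ Γ(G)`. -/
def homCst (G : Sheaf (Opens.grothendieckTopology Z) AddCommGrpCat.{u}) :
    (cst Z ⟶ G) ≃+ G.obj.obj (op (⊤ : Opens Z)) :=
  Ext.addEquiv₀.symm.trans (Sheaf.H.equiv₀ G (Preorder.isTerminalTop (Opens Z)))

lemma homCst_comp {G H : Sheaf (Opens.grothendieckTopology Z) AddCommGrpCat.{u}} (f : cst Z ⟶ G)
    (g : G ⟶ H) : homCst H (f ≫ g) = g.hom.app (op ⊤) (homCst G f) := by
  change Sheaf.H.equiv₀ H _ (Ext.mk₀ (f ≫ g)) = g.hom.app (op ⊤) (Sheaf.H.equiv₀ G _ (Ext.mk₀ f))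
  rw [Sheaf.H.equiv₀_naturality (f := g), Sheaf.H.map_apply, Ext.mk₀_comp_mk₀]

/-- The section `1`. -/
def η₁ (Z : Scheme.{u}) : cst Z ⟶ Coh.toAb (Coh.structureModule Z) :=
  (homCst _).symm (one Z ⊤)

lemma bijective_η₁ (Y : Z.Modules) :
    Function.Bijective fun f : Coh.structureModule Z ⟶ Y => η₁ Z ≫ (F Z).map f := by
  have key : ∀ f : Coh.structureModule Z ⟶ Y,
      homCst _ (η₁ Z ≫ (F Z).map f) = f.app ⊤ (one Z ⊤) := fun f =>
    (homCst_comp (η₁ Z) ((F Z).map f)).trans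
      (congrArg (fun t => ((F Z).map f).hom.app (op ⊤) t) ((homCst _).apply_symm_apply _))
  refine ⟨fun f g h => ?_, fun y => ?_⟩
  · have e : f.app ⊤ (one Z ⊤) = g.app ⊤ (one Z ⊤) :=
      ((key f).symm.trans (congrArg (homCst _) h)).trans (key g)
    refine Scheme.Modules.hom_ext _ _ fun W => ?_
    ext a
    rw [app_eq_smul f a, app_eq_smul g a]
    refine congrArg ((show Γ(Z, W) from a) • ·) ?_
    rw [← TensorMod.Gen.rs_app_one f (le_top : W ≤ ⊤), ← TensorMod.Gen.rs_app_one g (le_top : W ≤ ⊤), e]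
  · obtain ⟨f, hf⟩ := TensorMod.Gen.exists_hom_of_family (Z := Z) (M := Y)
      (fun W => TensorMod.Dual.rs Y (le_top : W ≤ ⊤) (homCst (Coh.toAb Y) y))
      (fun V W h => TensorMod.Dual.rs_rs Y le_top h _)
    refine ⟨f, (homCst _).injective ((key f).trans ((hf ⊤).trans ?_))⟩
    exact TensorMod.Dual.rs_self Y le_top _

/-- Cohomology of the underlying abelian sheaf of an injective module vanishes. -/
lemma subsingleton_ext_injective (I : Z.Modules) [Injective I] (n : ℕ) :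
    Subsingleton (Coh.HH Z I (n + 1)) :=
  haveI := CohDelta.Flasque.isFlasque_toAb I
  ZarCoh.Basic.H_flasque _ n

variable (G : Z.Modules ⥤ Z.Modules) [G.Additive] [PreservesFiniteLimits G] [PreservesFiniteColimits G]
  [HasExt.{u} Z.Modules] {A : Z.Modules} (j : Coh.structureModule Z ⟶ G.obj A)

/-- The section attached to `j`. -/
def ηj : cst Z ⟶ (G ⋙ F Z).obj A := η₁ Z ≫ (F Z).map j

/-- `Ext^n(A, Y) → H^n(X, G Y)`. -/
def extHH (Y : Z.Modules) (n : ℕ) : Ext.{u} A Y n →+ Coh.HH Z (G.obj Y) n :=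
  comp (G ⋙ F Z) (ηj G j) Y n

lemma extHH_comp_mk₀ {Y Y' : Z.Modules} (g : Y ⟶ Y') (n : ℕ) (x : Ext.{u} A Y n) :
    extHH G j Y' n (x.comp (Ext.mk₀ g) (add_zero n)) =
      Sheaf.H.map ((F Z).map (G.map g)) n (extHH G j Y n x) :=
  comp_comp_mk₀ _ _ x g

theorem extHH_bijective (h₀ : ∀ Y : Z.Modules, Function.Bijective fun f : A ⟶ Y => j ≫ G.map f)
    (hI : ∀ I : Z.Modules, Injective I → Injective (G.obj I)) (Y : Z.Modules) (n : ℕ) :
    Function.Bijective (extHH G j Y n) := by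
  refine comp_bijective (G ⋙ F Z) (ηj G j) (fun Y => ?_) (fun I hI' n => ?_) Y n
  · have e : (fun f : A ⟶ Y => ηj G j ≫ (G ⋙ F Z).map f) =
        (fun g => η₁ Z ≫ (F Z).map g) ∘ fun f : A ⟶ Y => j ≫ G.map f := by
      funext f
      simp [ηj]
    rw [e]
    exact (bijective_η₁ _).comp (h₀ Y)
  · have := hI I hI'
    exact subsingleton_ext_injective (G.obj I) n

variable (k : Type u) [CommRing k] [Z.Over (Spec (CommRingCat.of k))] [G.Linear k]

lemma extHH_smul (Y : Z.Modules) (n : ℕ) (r : k) (x : Ext.{u} A Y n) :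
    extHH G j Y n (r • x) = r • extHH G j Y n x := by
  rw [Ext.smul_eq_comp_mk₀, extHH_comp_mk₀, Functor.map_smul, CategoryTheory.Functor.map_id,
    KLin.smul_id]
  rfl

/-- `Ext^n(A, Y) ≅ H^n(X, G Y)`. -/
def extHHLinearEquiv (h₀ : ∀ Y : Z.Modules, Function.Bijective fun f : A ⟶ Y => j ≫ G.map f)
    (hI : ∀ I : Z.Modules, Injective I → Injective (G.obj I)) (Y : Z.Modules) (n : ℕ) :
    Ext.{u} A Y n ≃ₗ[k] Coh.HH Z (G.obj Y) n :=
  LinearEquiv.ofBijective
    { toFun := extHH G j Y n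
      map_add' := map_add _
      map_smul' := extHH_smul G j k Y n }
    (extHH_bijective G j h₀ hI Y n)

/-- `Ext^n(O_X, Y) ≅ H^n(X, Y)`. -/
def extUnitEquiv (Y : Z.Modules) (n : ℕ) :
    Ext.{u} (Coh.structureModule Z) Y n ≃ₗ[k] Coh.HH Z Y n :=
  extHHLinearEquiv (𝟭 Z.Modules) (𝟙 _) k
    (fun Y => ⟨fun f g h => ((Category.id_comp f).symm.trans h).trans (Category.id_comp g),
      fun g => ⟨g, Category.id_comp g⟩⟩)
    (fun I hI => hI) Y n

end Scheme

end Groth.Agent.Lib.ExtHH.Basic
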